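import Cfsg.Agent.CpAutHN.Second
import Mathlib.GroupTheory.FixedPointFree
import Cfsg.Agent.CpAutHN.Main
import Cfsg.Agent.OrdDiv.Table
import Cfsg.Agent.S0000
import Cfsg.Agent.FastGrp
import Cfsg.Agent.Prune
set_option linter.all false
prune_inst 0x7f00000000000000000000000000000000000000000000000000000000000000000000000000000000000000000000000000000000000000000000000000000000000000000000000000000000000000003fffffffffffffffffffffffffffbeffbdffffffff
open scoped Cfsg.Agent.FastGrp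

-- part: H678/HNT/SimpQ
section
/-!
# Groups with a simple subgroup containing a Sylow 2-subgroup (helper678)

`D ≤ X` simple, containing a Sylow 2-subgroup of `X`, `M` the normal closure of `D`. Then `M / O(M)` is simple.
-/

set_option autoImplicit false

namespace Cfsg.Agent.H678.HNT

open Cfsg Subgroup
open Cfsg.Agent

universe u

variable {X : Type u} [Group X] [Finite X]

theorem le_of_even (D : Subgroup X) [hD : IsSimpleGroup ↥D] (T : Sylow 2 X) (hT : (T : Subgroup X) ≤ D)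
    (L : Subgroup X) [hL : L.Normal] (h2 : 2 ∣ Nat.card L) : D ≤ L := by
  have : Fact (Nat.Prime 2) := ⟨Nat.prime_two⟩
  obtain ⟨u, hu⟩ := exists_prime_orderOf_dvd_card' 2 h2
  have hu2 : orderOf (u : X) = 2 := by rw [Subgroup.orderOf_coe, hu]
  obtain ⟨g, hg⟩ := Cfsg.Agent.CpAutHN.Big.mem_sylow_conj T hu2
  have h1 : ((L.subgroupOf D)).Normal := inferInstance
  rcases h1.eq_bot_or_eq_top with h3 | h3
  · exfalso
    have h4 : (⟨g * u * g⁻¹, hT hg⟩ : D) ∈ L.subgroupOf D := hL.conj_mem u u.2 g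
    rw [h3, mem_bot] at h4
    have h5 : g * (u : X) * g⁻¹ = 1 := congrArg Subtype.val h4
    have h6 : (u : X) = 1 := by
      calc (u : X) = g⁻¹ * (g * u * g⁻¹) * g := by group
        _ = 1 := by rw [h5]; group
    rw [h6, orderOf_one] at hu2
    norm_num at hu2
  · exact subgroupOf_eq_top.1 h3

theorem odd_of_not {n : ℕ} (h : ¬ 2 ∣ n) : n.Coprime 2 :=
  ((Nat.Prime.coprime_iff_not_dvd Nat.prime_two).2 h).symm

theorem simple_quot (D : Subgroup X) [hD : IsSimpleGroup ↥D] (h2D : 2 ∣ Nat.card D) (T : Sylow 2 X)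
    (hT : (T : Subgroup X) ≤ D) : IsSimpleGroup
      (↥(normalClosure (D : Set X)) ⧸ pPrimeCore 2 ↥(normalClosure (D : Set X))) := by
  have : Fact (Nat.Prime 2) := ⟨Nat.prime_two⟩
  set M : Subgroup X := normalClosure (D : Set X) with hM
  have hMn : M.Normal := normalClosure_normal
  have hDM : D ≤ M := le_normalClosure
  have hD' : IsSimpleGroup ↥(D.subgroupOf M) :=
    (MulEquiv.isSimpleGroup_congr (subgroupOfEquivOfLe hDM)).2 hD
  let T' : Sylow 2 M := T.subtype (hT.trans hDM)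
  have hT' : (T' : Subgroup M) ≤ D.subgroupOf M := by
    intro x hx
    exact hT hx
  have h2D' : 2 ∣ Nat.card ↥(D.subgroupOf M) := by
    rw [Nat.card_congr (subgroupOfEquivOfLe hDM).toEquiv]
    exact h2D
  -- normal subgroups of even order are everything
  have htop : ∀ K : Subgroup M, K.Normal → 2 ∣ Nat.card K → K = ⊤ := by
    set M' : Subgroup M := normalClosure ((D.subgroupOf M : Subgroup M) : Set M) with hM'
    have hM'n : M'.Normal := normalClosure_normal
    have hDM' : D.subgroupOf M ≤ M' := le_normalClosure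
    have h2M' : 2 ∣ Nat.card M' := h2D'.trans (card_dvd_of_le hDM')
    have hle : ∀ K : Subgroup M, K.Normal → 2 ∣ Nat.card K → M' ≤ K := by
      intro K hK h2K
      exact normalClosure_le_normal (le_of_even (D.subgroupOf M) T' hT' K h2K)
    have hstab : ∀ (h : X) (m : M), m ∈ M' → MulAut.conjNormal h m ∈ M' := by
      intro h m hm
      have h1 : (M'.map (MulAut.conjNormal h : MulAut M).toMonoidHom).Normal :=
        hM'n.map _ (MulAut.conjNormal h : MulAut M).surjective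
      have h2 : Nat.card ↥(M'.map (MulAut.conjNormal h : MulAut M).toMonoidHom) = Nat.card M' :=
        card_map_of_injective (MulAut.conjNormal h : MulAut M).injective
      have h3 := hle _ h1 (by rw [h2]; exact h2M')
      have h4 := Subgroup.eq_of_le_of_card_ge h3 (by rw [h2])
      rw [h4]
      exact ⟨m, hm, rfl⟩
    have hn : (M'.map M.subtype).Normal := by
      constructor
      rintro _ ⟨m, hm, rfl⟩ h
      exact ⟨MulAut.conjNormal h m, hstab h m hm, rfl⟩
    have hMM : M ≤ M'.map M.subtype := by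
      refine normalClosure_le_normal ?_
      intro d hd
      exact ⟨⟨d, hDM hd⟩, hDM' hd, rfl⟩
    intro K hK h2K
    rw [eq_top_iff]
    intro m _
    obtain ⟨m', hm', e⟩ := hMM m.2
    have : m' = m := Subtype.ext e
    rw [← this]
    exact hle K hK h2K hm'
  have hcop : ¬ 2 ∣ Nat.card ↥(pPrimeCore 2 M) :=
    (Nat.Prime.coprime_iff_not_dvd Nat.prime_two).1 (Lib.Cores.pPrimeCore_coprime (G := M) 2).symm
  have hnt : Nontrivial (M ⧸ pPrimeCore 2 M) := by
    rw [QuotientGroup.nontrivial_iff]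
    intro h
    rw [h, Nat.card_congr topEquiv.toEquiv] at hcop
    exact hcop (h2D'.trans (card_subgroup_dvd_card _))
  refine ⟨fun N hN => ?_⟩
  have hK : (N.comap (QuotientGroup.mk' (pPrimeCore 2 M))).Normal := inferInstance
  by_cases h2 : 2 ∣ Nat.card ↥(N.comap (QuotientGroup.mk' (pPrimeCore 2 M)))
  · right
    have h3 := htop _ hK h2
    rw [eq_top_iff]
    intro x _
    obtain ⟨y, rfl⟩ := QuotientGroup.mk'_surjective (pPrimeCore 2 M) x
    have : y ∈ N.comap (QuotientGroup.mk' (pPrimeCore 2 M)) := by rw [h3]; exact mem_top _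
    exact this
  · left
    have h3 : N.comap (QuotientGroup.mk' (pPrimeCore 2 M)) ≤ pPrimeCore 2 M :=
      Lib.Cores.le_pPrimeCore hK (odd_of_not h2)
    rw [eq_bot_iff]
    intro x hx
    obtain ⟨y, rfl⟩ := QuotientGroup.mk'_surjective (pPrimeCore 2 M) x
    rw [mem_bot]
    exact (QuotientGroup.eq_one_iff y).2 (h3 hx)

end Cfsg.Agent.H678.HNT
end

-- part: H678/HNT/Prod
section
/-!
# Groups with a simple subgroup containing a Sylow 2-subgroup, II (helper678)

* `mem_prod` : `X = D O(X)`;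
* `core_le` : `O(X)` is central.
-/

set_option autoImplicit false

namespace Cfsg.Agent.H678.HNT

open Cfsg Subgroup
open Cfsg.Agent

universe u

variable {X : Type u} [Group X] [Finite X]

theorem not_two_dvd_core : ¬ 2 ∣ Nat.card ↥(pPrimeCore 2 X) :=
  (Nat.Prime.coprime_iff_not_dvd Nat.prime_two).1 (Lib.Cores.pPrimeCore_coprime (G := X) 2).symm

theorem eq_one_of_sq {j : X} (hj : j ∈ pPrimeCore 2 X) (h : j * j = 1) : j = 1 := by
  by_contra hne
  have : Fact (Nat.Prime 2) := ⟨Nat.prime_two⟩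
  have h1 : orderOf j = 2 := orderOf_eq_prime (by rw [pow_two]; exact h) hne
  have h2 : orderOf (⟨j, hj⟩ : pPrimeCore 2 X) ∣ Nat.card ↥(pPrimeCore 2 X) := orderOf_dvd_natCard _
  rw [orderOf_mk, h1] at h2
  exact not_two_dvd_core h2

theorem inf_core (D : Subgroup X) [hD : IsSimpleGroup ↥D] (h2D : 2 ∣ Nat.card D) : D ⊓ pPrimeCore 2 X = ⊥ := by
  have h1 : ((pPrimeCore 2 X).subgroupOf D).Normal := inferInstance
  rcases h1.eq_bot_or_eq_top with h2 | h2
  · rw [eq_bot_iff]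
    intro x hx
    have h3 : (⟨x, hx.1⟩ : ↥D) ∈ (pPrimeCore 2 X).subgroupOf D := hx.2
    rw [h2, mem_bot] at h3
    exact mem_bot.2 (congrArg Subtype.val h3)
  · exfalso
    exact not_two_dvd_core (h2D.trans (card_dvd_of_le (subgroupOf_eq_top.1 h2)))

/-- The normal closure of `D` is `D O(M)`. -/
theorem mem_closure (D : Subgroup X) [hD : IsSimpleGroup ↥D] (h2D : 2 ∣ Nat.card D)
    (hcard : Nat.card (↥(normalClosure (D : Set X)) ⧸ pPrimeCore 2 ↥(normalClosure (D : Set X))) = Nat.card D)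
    {m : X} (hm : m ∈ normalClosure (D : Set X)) : ∃ d ∈ D, ∃ j ∈ pPrimeCore 2 X, m = d * j := by
  have hDM : D ≤ normalClosure (D : Set X) := le_normalClosure
  have hMn : (normalClosure (D : Set X)).Normal := normalClosure_normal
  have hmap := Lib.Cores.map_subtype_pPrimeCore 2 hMn
  have hle : ∀ y : ↥(normalClosure (D : Set X)), y ∈ pPrimeCore 2 ↥(normalClosure (D : Set X)) →
      (y : X) ∈ pPrimeCore 2 X := by
    intro y hy
    have h1 : (y : X) ∈ (pPrimeCore 2 ↥(normalClosure (D : Set X))).map (normalClosure (D : Set X)).subtype :=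
      ⟨y, hy, rfl⟩
    rw [hmap] at h1
    exact h1.2
  let f : D →* (↥(normalClosure (D : Set X)) ⧸ pPrimeCore 2 ↥(normalClosure (D : Set X))) :=
    (QuotientGroup.mk' _).comp (inclusion hDM)
  have hf : Function.Injective f := by
    rw [injective_iff_map_eq_one]
    intro a ha
    have h1 := hle _ ((QuotientGroup.eq_one_iff _).1 ha)
    have h2 : (a : X) ∈ D ⊓ pPrimeCore 2 X := ⟨a.2, h1⟩
    rw [inf_core D h2D, mem_bot] at h2
    exact Subtype.ext h2
  have hs : Function.Surjective f := ((Nat.bijective_iff_injective_and_card f).2 ⟨hf, hcard.symm⟩).2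
  obtain ⟨d, hd⟩ := hs (QuotientGroup.mk ⟨m, hm⟩)
  have h1 : (inclusion hDM d)⁻¹ * ⟨m, hm⟩ ∈ pPrimeCore 2 ↥(normalClosure (D : Set X)) := QuotientGroup.eq.1 hd
  refine ⟨d, d.2, (d : X)⁻¹ * m, hle _ h1, by group⟩

/-- Involutions which are congruent modulo `O(X)` are conjugate. -/
theorem conj_of_mul_mem {a b : X} (ha : a * a = 1) (hb : b * b = 1) (h : a * b ∈ pPrimeCore 2 X) :
    ∃ g ∈ pPrimeCore 2 X, g * b * g⁻¹ = a := by
  set c := a * b with hc
  have hodd : Odd (orderOf c) := by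
    rw [← Nat.not_even_iff_odd, even_iff_two_dvd]
    intro h2
    have h3 : orderOf (⟨c, h⟩ : pPrimeCore 2 X) ∣ Nat.card ↥(pPrimeCore 2 X) := orderOf_dvd_natCard _
    rw [orderOf_mk] at h3
    exact not_two_dvd_core (h2.trans h3)
  obtain ⟨k, hk⟩ := hodd
  have hbi : b⁻¹ = b := inv_eq_of_mul_eq_one_left hb
  have hai : a⁻¹ = a := inv_eq_of_mul_eq_one_left ha
  have hinv : b * c * b⁻¹ = c⁻¹ := by
    rw [hc, mul_inv_rev, hai, hbi]
    calc b * (a * b) * b = b * a * (b * b) := by simp only [mul_assoc]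
      _ = b * a := by rw [hb, mul_one]
  have hg2 : c ^ (k + 1) * c ^ (k + 1) = c := by
    rw [← pow_add, show k + 1 + (k + 1) = (2 * k + 1) + 1 by ring, pow_succ, ← hk, pow_orderOf_eq_one, one_mul]
  refine ⟨c ^ (k + 1), pow_mem h _, ?_⟩
  have h1 : b * (c ^ (k + 1))⁻¹ * b⁻¹ = c ^ (k + 1) := by
    have h2 : b * c ^ (k + 1) * b⁻¹ = (c ^ (k + 1))⁻¹ := by
      rw [← conj_pow, hinv, inv_pow]
    have h3 := congrArg (fun z => z⁻¹) h2
    simp only [mul_inv_rev, inv_inv] at h3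
    rw [mul_assoc]
    exact h3
  calc c ^ (k + 1) * b * (c ^ (k + 1))⁻¹ = c ^ (k + 1) * (b * (c ^ (k + 1))⁻¹ * b⁻¹) * b := by group
    _ = c ^ (k + 1) * c ^ (k + 1) * b := by rw [h1]
    _ = a := by rw [hg2, hc, mul_assoc, hb, mul_one]

/-- **`X = D O(X)`**. -/
theorem mem_prod (D : Subgroup X) [hD : IsSimpleGroup ↥D] (h2D : 2 ∣ Nat.card D)
    (hcard : Nat.card (↥(normalClosure (D : Set X)) ⧸ pPrimeCore 2 ↥(normalClosure (D : Set X))) = Nat.card D)
    {s : X} (hs : s ∈ D) (hs2 : s * s = 1) (hs1 : s ≠ 1)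
    (hcl : ∀ d ∈ D, d * d = 1 → d ≠ 1 → (∃ h : X, h * s * h⁻¹ = d) → ∃ e ∈ D, e * s * e⁻¹ = d)
    (hC : ∀ c : X, c * s = s * c → ∃ d ∈ D, ∃ j ∈ pPrimeCore 2 X, c = d * j) (h : X) :
    ∃ d ∈ D, ∃ j ∈ pPrimeCore 2 X, h = d * j := by
  have hJn : (pPrimeCore 2 X).Normal := Lib.Cores.pPrimeCore_normal 2
  have hbot := inf_core D h2D
  have hmem : h * s * h⁻¹ ∈ normalClosure (D : Set X) :=
    normalClosure_normal.conj_mem _ (le_normalClosure hs) h
  obtain ⟨d, hd, j, hj, e⟩ := mem_closure D h2D hcard hmem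
  have hsq : (h * s * h⁻¹) * (h * s * h⁻¹) = 1 := by
    calc (h * s * h⁻¹) * (h * s * h⁻¹) = h * (s * s) * h⁻¹ := by group
      _ = 1 := by rw [hs2]; group
  have hdd : d * d = 1 := by
    have h1 : d * d ∈ D ⊓ pPrimeCore 2 X := by
      refine ⟨D.mul_mem hd hd, ?_⟩
      have h2 : d * d = ((d⁻¹ * j * d⁻¹⁻¹) * j)⁻¹ := by
        rw [eq_inv_iff_mul_eq_one, ← hsq, e]
        group
      rw [h2]
      exact (pPrimeCore 2 X).inv_mem ((pPrimeCore 2 X).mul_mem (hJn.conj_mem j hj d⁻¹) hj)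
    rwa [hbot, mem_bot] at h1
  have hd1 : d ≠ 1 := by
    rintro rfl
    rw [one_mul] at e
    have h1 := eq_one_of_sq hj (by rw [← e]; exact hsq)
    rw [h1] at e
    apply hs1
    calc s = h⁻¹ * (h * s * h⁻¹) * h := by group
      _ = 1 := by rw [e]; group
  obtain ⟨g, hg, hgd⟩ := conj_of_mul_mem hsq hdd (by
    rw [e]
    have hdi : d⁻¹ = d := inv_eq_of_mul_eq_one_left hdd
    have := hJn.conj_mem j hj d
    rwa [hdi] at this)
  obtain ⟨a, ha, hads⟩ := hcl d hd hdd hd1 ⟨g⁻¹ * h, by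
    rw [mul_inv_rev, inv_inv]
    calc g⁻¹ * h * s * (h⁻¹ * g) = g⁻¹ * (h * s * h⁻¹) * g := by group
      _ = d := by rw [← hgd]; group⟩
  obtain ⟨d', hd', j', hj', ec⟩ := hC (a⁻¹ * g⁻¹ * h) (by
    have h1 : h * s = g * a * s * a⁻¹ * g⁻¹ * h := by
      calc h * s = (h * s * h⁻¹) * h := by group
        _ = g * (a * s * a⁻¹) * g⁻¹ * h := by rw [← hgd, hads]
        _ = _ := by group
    calc a⁻¹ * g⁻¹ * h * s = a⁻¹ * g⁻¹ * (h * s) := by group
      _ = s * (a⁻¹ * g⁻¹ * h) := by rw [h1]; group)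
  refine ⟨a * d', D.mul_mem ha hd', ((a * d')⁻¹ * g * (a * d')⁻¹⁻¹) * j',
    mul_mem (hJn.conj_mem g hg _) hj', ?_⟩
  have h2 : h = g * a * (a⁻¹ * g⁻¹ * h) := by group
  rw [h2, ec]
  group

/-- An involution with `C_J(s) ≤ Z` inverts `J / Z`. -/
theorem inverts {x : X} (hx : ∀ y : X, x * y = y * x) {s : X} (hs : s * s = 1)
    (hfix : ∀ j ∈ pPrimeCore 2 X, j * s = s * j → j ∈ zpowers x) (hxJ : x ∈ pPrimeCore 2 X) {j : X}
    (hj : j ∈ pPrimeCore 2 X) : s * j * s⁻¹ * j ∈ zpowers x := by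
  have hJn : (pPrimeCore 2 X).Normal := Lib.Cores.pPrimeCore_normal 2
  have hZ : ∀ z ∈ zpowers x, ∀ y : X, z * y = y * z := by
    intro z hz y
    obtain ⟨k, rfl⟩ := mem_zpowers_iff.1 hz
    exact ((show Commute x y from hx y).zpow_left k).eq
  have hZn : (zpowers x).Normal := by
    constructor
    intro z hz y
    rw [← hZ z hz y, mul_inv_cancel_right]
    exact hz
  have hZJ : zpowers x ≤ pPrimeCore 2 X := by rwa [zpowers_le]
  let J := pPrimeCore 2 X
  let Z' : Subgroup J := (zpowers x).subgroupOf J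
  have hZ'n : Z'.Normal := inferInstance
  let φ : (J ⧸ Z') →* (J ⧸ Z') := QuotientGroup.map Z' Z' (MulAut.conjNormal s : MulAut J).toMonoidHom (by
    intro y hy
    show s * (y : X) * s⁻¹ ∈ zpowers x
    exact hZn.conj_mem _ hy s)
  have hφ : ∀ y : J, φ (QuotientGroup.mk y) = QuotientGroup.mk ((MulAut.conjNormal s : MulAut J) y) := fun y => rfl
  have hsi : s⁻¹ = s := inv_eq_of_mul_eq_one_left hs
  have hfp : MonoidHom.FixedPointFree φ := by
    intro q hq
    obtain ⟨y, rfl⟩ := QuotientGroup.mk_surjective q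
    rw [hφ, eq_comm, QuotientGroup.eq] at hq
    have h1 : (y : X)⁻¹ * (s * y * s⁻¹) ∈ zpowers x := hq
    have h2 : (y : X)⁻¹ * (s * y * s⁻¹) = 1 := by
      apply eq_one_of_sq (hZJ h1)
      generalize hz : (y : X)⁻¹ * (s * y * s⁻¹) = z at h1
      have h3 : s * (y : X) * s⁻¹ = y * z := by rw [← hz]; group
      have h4 : (y : X) = y * z * z := by
        calc (y : X) = s * (s * y * s⁻¹) * s⁻¹ := by
              rw [hsi]
              calc (y : X) = (s * s) * y * (s * s) := by rw [hs, one_mul, mul_one]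
                _ = _ := by simp only [mul_assoc]
          _ = (s * y * s⁻¹) * z := by
              rw [h3]
              calc s * (y * z) * s⁻¹ = s * y * (z * s⁻¹) := by simp only [mul_assoc]
                _ = s * y * s⁻¹ * z := by rw [hZ z h1]; simp only [mul_assoc]
                _ = y * z * z := by rw [h3]
          _ = y * z * z := by rw [h3]
      have h5 : (y : X) * 1 = y * (z * z) := by rw [mul_one, ← mul_assoc]; exact h4
      exact (mul_left_cancel h5).symm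
    have h6 : s * (y : X) * s⁻¹ = y := (inv_mul_eq_one.1 h2).symm
    rw [QuotientGroup.eq_one_iff]
    show (y : X) ∈ zpowers x
    apply hfix y y.2
    calc (y : X) * s = (s * y * s⁻¹) * s := by rw [h6]
      _ = s * y := by group
  have hinv : Function.Involutive φ := by
    intro q
    obtain ⟨y, rfl⟩ := QuotientGroup.mk_surjective q
    rw [hφ, hφ]
    congr 1
    apply Subtype.ext
    show s * (s * (y : X) * s⁻¹) * s⁻¹ = y
    rw [hsi]
    calc s * (s * (y : X) * s) * s = (s * s) * y * (s * s) := by simp only [mul_assoc]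
      _ = y := by rw [hs, one_mul, mul_one]
  have h1 := congrFun (hfp.coe_eq_inv_of_involutive hinv) (QuotientGroup.mk ⟨j, hj⟩)
  rw [hφ, ← QuotientGroup.mk_inv, eq_comm, QuotientGroup.eq, inv_inv] at h1
  have h2 : j * (s * j * s⁻¹) ∈ zpowers x := h1
  have h3 := hZn.conj_mem _ h2 j⁻¹
  have h4 : j⁻¹ * (j * (s * j * s⁻¹)) * j⁻¹⁻¹ = s * j * s⁻¹ * j := by group
  rwa [h4] at h3

/-- **`O(X)` is central.** -/
theorem core_le {x : X} (hx : ∀ y : X, x * y = y * x) (hxJ : x ∈ pPrimeCore 2 X) {s t : X} (hs : s * s = 1)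
    (ht : t * t = 1) (hst : s * t = t * s)
    (hfs : ∀ j ∈ pPrimeCore 2 X, j * s = s * j → j ∈ zpowers x)
    (hft : ∀ j ∈ pPrimeCore 2 X, j * t = t * j → j ∈ zpowers x)
    (hfst : ∀ j ∈ pPrimeCore 2 X, j * (s * t) = (s * t) * j → j ∈ zpowers x) : pPrimeCore 2 X ≤ zpowers x := by
  have hJn : (pPrimeCore 2 X).Normal := Lib.Cores.pPrimeCore_normal 2
  have hZ : ∀ z ∈ zpowers x, ∀ y : X, z * y = y * z := by
    intro z hz y
    obtain ⟨k, rfl⟩ := mem_zpowers_iff.1 hz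
    exact ((show Commute x y from hx y).zpow_left k).eq
  intro j hj
  have hstst : (s * t) * (s * t) = 1 := by
    calc (s * t) * (s * t) = s * (t * s) * t := by simp only [mul_assoc]
      _ = (s * s) * (t * t) := by rw [← hst]; simp only [mul_assoc]
      _ = 1 := by rw [hs, ht, one_mul]
  have h1 := inverts hx ht hft hxJ hj
  have h2 := inverts hx hs hfs hxJ hj
  have h3 := inverts hx hstst hfst hxJ hj
  -- `j²` is central
  have h4 : j * j ∈ zpowers x := by
    generalize e1 : t * j * t⁻¹ * j = z1 at h1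
    generalize e2 : s * j * s⁻¹ * j = z2 at h2
    generalize e3 : (s * t) * j * (s * t)⁻¹ * j = z3 at h3
    have a1 : t * j * t⁻¹ = j⁻¹ * z1 := by
      rw [← hZ z1 h1, ← e1]; group
    have a2 : s * j⁻¹ * s⁻¹ = z2⁻¹ * j := by
      have : s * j * s⁻¹ = z2 * j⁻¹ := by rw [← e2]; group
      calc s * j⁻¹ * s⁻¹ = (s * j * s⁻¹)⁻¹ := by group
        _ = j * z2⁻¹ := by rw [this]; group
        _ = z2⁻¹ * j := (hZ _ (inv_mem h2) j).symm
    have a3 : (s * t) * j * (s * t)⁻¹ = z2⁻¹ * j * z1 := by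
      calc (s * t) * j * (s * t)⁻¹ = s * (t * j * t⁻¹) * s⁻¹ := by group
        _ = s * j⁻¹ * (z1 * s⁻¹) := by rw [a1]; simp only [mul_assoc]
        _ = s * j⁻¹ * s⁻¹ * z1 := by rw [hZ z1 h1]; simp only [mul_assoc]
        _ = z2⁻¹ * j * z1 := by rw [a2]
    rw [a3] at e3
    have h5 : j * j = z2 * z3 * z1⁻¹ := by
      have h6 : z2⁻¹ * j * z1 * j = z2⁻¹ * (j * j) * z1 := by
        calc z2⁻¹ * j * z1 * j = z2⁻¹ * j * (z1 * j) := by simp only [mul_assoc]
          _ = _ := by rw [hZ z1 h1]; simp only [mul_assoc]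
      rw [h6] at e3
      rw [← e3]
      group
    rw [h5]
    exact mul_mem (mul_mem h2 h3) (inv_mem h1)
  have hodd : Odd (orderOf j) := by
    rw [← Nat.not_even_iff_odd, even_iff_two_dvd]
    intro h5
    have h6 : orderOf (⟨j, hj⟩ : pPrimeCore 2 X) ∣ Nat.card ↥(pPrimeCore 2 X) := orderOf_dvd_natCard _
    rw [orderOf_mk] at h6
    exact not_two_dvd_core (h5.trans h6)
  obtain ⟨k, hk⟩ := hodd
  have h5 : j = (j * j) ^ (k + 1) := by
    rw [← pow_two, ← pow_mul, show 2 * (k + 1) = (2 * k + 1) + 1 by ring, pow_succ, ← hk, pow_orderOf_eq_one, one_mul]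
  rw [h5]
  exact pow_mem h4 _

end Cfsg.Agent.H678.HNT
end

-- part: H678/HNT/Nine
section
/-!
# Involutions of `A₉` (helper678)
-/

set_option autoImplicit false

namespace Cfsg.Agent.H678.HNT.Nine

open Cfsg Subgroup Equiv.Perm
open Cfsg.Agent.CpAutHN.NineAlt

/-- `(0 1)(2 3)` -/
def p22 : Equiv.Perm (Fin 9) := cy9 [0, 1] * cy9 [2, 3]
/-- `(4 5 6 7 8)` -/
def c5 : Equiv.Perm (Fin 9) := cy9 [4, 5, 6, 7, 8]

theorem cycle_ps : ps.cycleType = {2, 2, 2, 2} := by decide +kernel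
theorem cycle_p22 : p22.cycleType = {2, 2} := by decide +kernel

theorem conj_of_cycle {δ : A9} (h : (δ : Equiv.Perm (Fin 9)).cycleType = {2, 2, 2, 2}) : ∃ c : A9, c * s9 * c⁻¹ = δ := by
  have h3 : IsConj ps (δ : Equiv.Perm (Fin 9)) := by
    rw [isConj_iff_cycleType_eq, cycle_ps, h]
  obtain ⟨c, hc⟩ := isConj_iff.1 h3
  rcases Int.units_eq_one_or (sign c) with h4 | h4
  · exact ⟨⟨c, mem_alternatingGroup.2 h4⟩, Subtype.ext hc⟩
  · refine ⟨⟨c * Equiv.swap (0 : Fin 9) 2, ?_⟩, Subtype.ext ?_⟩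
    · rw [mem_alternatingGroup, map_mul, h4]
      decide +kernel
    · show c * Equiv.swap (0 : Fin 9) 2 * ps * (c * Equiv.swap (0 : Fin 9) 2)⁻¹ = (δ : Equiv.Perm (Fin 9))
      have h5 : Equiv.swap (0 : Fin 9) 2 * ps = ps * Equiv.swap (0 : Fin 9) 2 := by decide +kernel
      rw [← hc]
      calc c * Equiv.swap (0 : Fin 9) 2 * ps * (c * Equiv.swap (0 : Fin 9) 2)⁻¹ =
          c * (Equiv.swap (0 : Fin 9) 2 * ps) * (Equiv.swap (0 : Fin 9) 2)⁻¹ * c⁻¹ := by group
        _ = c * ps * c⁻¹ := by rw [h5]; group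

/-- an involution of `A9` is conjugate to `s9` or commutes with an element of order 5 -/
theorem cases {δ : A9} (h1 : δ * δ = 1) (h2 : δ ≠ 1) :
    (∃ c : A9, c * s9 * c⁻¹ = δ) ∨ ∃ c : A9, orderOf c = 5 ∧ c * δ = δ * c := by
  have hδ : orderOf (δ : Equiv.Perm (Fin 9)) = 2 := by
    rw [Subgroup.orderOf_coe]
    have : Fact (Nat.Prime 2) := ⟨Nat.prime_two⟩
    exact orderOf_eq_prime (by rw [pow_two]; exact h1) h2
  obtain ⟨n, hn⟩ := cycleType_prime_order (σ := (δ : Equiv.Perm (Fin 9))) (by rw [hδ]; exact Nat.prime_two)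
  rw [hδ] at hn
  have hsum := sum_cycleType_le (δ : Equiv.Perm (Fin 9))
  rw [hn, Multiset.sum_replicate, Fintype.card_fin, smul_eq_mul] at hsum
  have hsign := sign_of_cycleType (δ : Equiv.Perm (Fin 9))
  rw [(mem_alternatingGroup.1 δ.2), hn, Multiset.sum_replicate, Multiset.card_replicate, smul_eq_mul] at hsign
  have hn4 : n = 1 ∨ n = 3 := by
    have h3 : n < 4 := by omega
    interval_cases n
    · exact absurd hsign (by decide)
    · exact Or.inl rfl
    · exact absurd hsign (by decide)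
    · exact Or.inr rfl
  rcases hn4 with rfl | rfl
  · right
    have h3 : IsConj p22 (δ : Equiv.Perm (Fin 9)) := by
      rw [isConj_iff_cycleType_eq, cycle_p22, hn]
      rfl
    obtain ⟨c, hc⟩ := isConj_iff.1 h3
    have hmem : c * c5 * c⁻¹ ∈ alternatingGroup (Fin 9) := by
      rw [mem_alternatingGroup, map_mul, map_mul, map_inv, mul_comm, inv_mul_cancel_left]
      decide +kernel
    refine ⟨⟨c * c5 * c⁻¹, hmem⟩, ?_, Subtype.ext ?_⟩
    · rw [Subgroup.orderOf_mk]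
      have h4 := MulEquiv.orderOf_eq (MulAut.conj c) c5
      rw [MulAut.conj_apply] at h4
      rw [h4]
      have : Fact (Nat.Prime 5) := ⟨Nat.prime_five⟩
      exact orderOf_eq_prime (by decide +kernel) (by decide +kernel)
    · show c * c5 * c⁻¹ * (δ : Equiv.Perm (Fin 9)) = δ * (c * c5 * c⁻¹)
      rw [← hc]
      have h5 : c5 * p22 = p22 * c5 := by decide +kernel
      calc c * c5 * c⁻¹ * (c * p22 * c⁻¹) = c * (c5 * p22) * c⁻¹ := by group
        _ = c * (p22 * c5) * c⁻¹ := by rw [h5]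
        _ = _ := by group
  · left
    exact conj_of_cycle (by rw [hn]; rfl)

theorem card_cent_s9 : 192 ≤ Nat.card ↥(centralizer ({s9} : Set A9)) := by
  have h0 : Nat.card ↥(centralizer ({ps} : Set (Equiv.Perm (Fin 9)))) = 384 := by
    have h := Equiv.Perm.nat_card_centralizer ps
    rw [cycle_ps] at h
    rw [h]
    decide +kernel
  have h1 : Nat.card ↥(centralizer ({s9} : Set A9)) =
      Nat.card ↥(centralizer ({ps} : Set (Equiv.Perm (Fin 9))) ⊓ alternatingGroup (Fin 9)) := by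
    have h2 : centralizer ({s9} : Set A9) =
        (centralizer ({ps} : Set (Equiv.Perm (Fin 9)))).subgroupOf (alternatingGroup (Fin 9)) := by
      ext y
      rw [mem_centralizer_singleton_iff, mem_subgroupOf, mem_centralizer_singleton_iff]
      exact Subtype.ext_iff
    rw [h2, ← inf_subgroupOf_right]
    exact Nat.card_congr (subgroupOfEquivOfLe inf_le_right).toEquiv
  have h3 := relIndex_mul_relIndex ⊥ (centralizer ({ps} : Set (Equiv.Perm (Fin 9))) ⊓ alternatingGroup (Fin 9))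
    (centralizer ({ps} : Set (Equiv.Perm (Fin 9)))) bot_le inf_le_left
  rw [relIndex_bot_left, relIndex_bot_left, h0, inf_comm, inf_relIndex_right] at h3
  rw [h1, inf_comm]
  have h4 : (alternatingGroup (Fin 9)).relIndex (centralizer ({ps} : Set (Equiv.Perm (Fin 9)))) ∣ 2 := by
    have h5 : (alternatingGroup (Fin 9)).index = 2 := alternatingGroup.index_eq_two
    rw [← h5]
    exact relIndex_dvd_index_of_normal _ _
  have h6 := Nat.le_of_dvd (by norm_num) h4
  nlinarith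

theorem conj_a9 : ∃ c : A9, c * s9 * c⁻¹ = a9 := conj_of_cycle (by change p2.cycleType = _; decide +kernel)

theorem conj_s9a9 : ∃ c : A9, c * s9 * c⁻¹ = s9 * a9 := conj_of_cycle (by
  change (ps * p2).cycleType = _
  decide +kernel)

end Cfsg.Agent.H678.HNT.Nine
end

-- part: H678/HNT/Cent
section
/-!
# The centraliser of a `3A` element of `HN` is `3 × A₉` (helper678)
-/

set_option autoImplicit false

namespace Cfsg.Agent.H678.HNT.Cent

open Cfsg Subgroup
open Cfsg.Agent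
open Cfsg.Agent.CpAutHN.Pairs
open Cfsg.Agent.CpAutHN.Second
open Cfsg.Agent.CpAutHN.NineAlt
open Cfsg.Agent.H678.HNT

/-- The centraliser of `X1`. -/
abbrev C1 : Type := ↥(centralizer ({X1} : Set G))

instance finite_G : Finite G := Nat.finite_of_card_ne_zero (by
  rw [Cfsg.Agent.KFacts.HN.Classes.card_HN]; norm_num)

/-- `X1` in its centraliser. -/
noncomputable def xx : C1 := ⟨X1, mem_centralizer_singleton_iff.2 rfl⟩

theorem xx_comm (y : C1) : xx * y = y * xx := Subtype.ext (mem_centralizer_singleton_iff.1 y.2).symm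

theorem order_xx : orderOf xx = 3 := by rw [← Subgroup.orderOf_coe]; exact order_X1

theorem xx_core : xx ∈ pPrimeCore 2 C1 := by
  have h : zpowers xx ≤ pPrimeCore 2 C1 := by
    refine Lib.Cores.le_pPrimeCore ?_ ?_
    · constructor
      intro z hz y
      obtain ⟨k, rfl⟩ := mem_zpowers_iff.1 hz
      rw [← ((show Commute xx y from xx_comm y).zpow_left k).eq, mul_inv_cancel_right]
      exact zpow_mem (mem_zpowers xx) k
    · rw [Nat.card_zpowers, order_xx]
      norm_num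
  exact h (mem_zpowers xx)

/-- The subgroup `A9` of `C(X1)`. -/
noncomputable abbrev DD : Subgroup C1 := Ψ.range

instance simple_DD : IsSimpleGroup ↥DD := simple_range

theorem two_dvd : 2 ∣ Nat.card ↥DD := by rw [card_range]; norm_num

theorem card_quot : Nat.card (↥(normalClosure (DD : Set C1)) ⧸ pPrimeCore 2 ↥(normalClosure (DD : Set C1))) =
    Nat.card ↥DD := by
  obtain ⟨T, hT, -⟩ := exists_sylow_C
  have hs := simple_quot DD two_dvd T hT
  have hDM : DD ≤ normalClosure (DD : Set C1) := le_normalClosure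
  have hMn : (normalClosure (DD : Set C1)).Normal := normalClosure_normal
  have hmap := Lib.Cores.map_subtype_pPrimeCore 2 hMn
  let f : A9 →* (↥(normalClosure (DD : Set C1)) ⧸ pPrimeCore 2 ↥(normalClosure (DD : Set C1))) :=
    (QuotientGroup.mk' _).comp ((inclusion hDM).comp Ψ.rangeRestrict)
  have hf : Function.Injective f := by
    rw [injective_iff_map_eq_one]
    intro a ha
    have h0 := (QuotientGroup.eq_one_iff _).1 ha
    have h1 : (Ψ a : C1) ∈ (pPrimeCore 2 ↥(normalClosure (DD : Set C1))).map (normalClosure (DD : Set C1)).subtype :=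
      ⟨_, h0, rfl⟩
    rw [hmap] at h1
    have h2 : (Ψ a : C1) ∈ DD ⊓ pPrimeCore 2 C1 := ⟨⟨a, rfl⟩, h1.2⟩
    rw [inf_core DD two_dvd, mem_bot] at h2
    exact (injective_iff_map_eq_one Ψ).1 Ψ_inj a h2
  have h9 : 181440 ∣ Nat.card (↥(normalClosure (DD : Set C1)) ⧸ pPrimeCore 2 ↥(normalClosure (DD : Set C1))) := by
    rw [← card_A9, Nat.card_congr (MonoidHom.ofInjective hf).toEquiv]
    exact card_subgroup_dvd_card _
  have hd : Nat.card (↥(normalClosure (DD : Set C1)) ⧸ pPrimeCore 2 ↥(normalClosure (DD : Set C1))) ∣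
      2 ^ 6 * 3 ^ 6 * 5 ^ 6 * 7 * 11 * 19 :=
    ((card_quotient_dvd_card _).trans (card_subgroup_dvd_card _)).trans card_C_dvd
  have hna : ¬ ∀ a b : (↥(normalClosure (DD : Set C1)) ⧸ pPrimeCore 2 ↥(normalClosure (DD : Set C1))),
      a * b = b * a := by
    intro h
    apply CpAutHN.Main.not_comm_A9
    apply hf
    rw [map_mul, map_mul]
    exact h _ _
  obtain ⟨e⟩ := CpAutHN.Main.alt_nine OrdDiv.table S0000.result hna hd h9
  rw [Nat.card_congr e.toEquiv, card_range]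
  exact card_A9

theorem s9_core {j : C1} (hj : j ∈ pPrimeCore 2 C1) {a : A9} (h : ∃ i : ℤ, j = xx ^ i * Ψ a) : j ∈ zpowers xx := by
  obtain ⟨i, h⟩ := h
  have h1 : Ψ a ∈ DD ⊓ pPrimeCore 2 C1 := by
    refine ⟨⟨a, rfl⟩, ?_⟩
    have : Ψ a = (xx ^ i)⁻¹ * j := by rw [h]; group
    rw [this]
    exact (pPrimeCore 2 C1).mul_mem ((pPrimeCore 2 C1).inv_mem ((pPrimeCore 2 C1).zpow_mem xx_core i)) hj
  rw [inf_core DD two_dvd, mem_bot] at h1
  rw [h, h1, mul_one]
  exact zpow_mem (mem_zpowers xx) i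

/-- The centraliser of `s` in `C(X1)`. -/
theorem cent_s {c : C1} (hc : c * Ψ s9 = Ψ s9 * c) : ∃ i : ℤ, ∃ a : A9, a * s9 = s9 * a ∧ c = xx ^ i * Ψ a := by
  have hcomm : ∀ (i : ℤ) (a : A9), xx ^ i * Ψ a = Ψ a * xx ^ i := fun i a =>
    ((show Commute xx (Ψ a) from xx_comm _).zpow_left i).eq
  have hbot : ∀ (i : ℤ) (a : A9), xx ^ i * Ψ a = 1 → xx ^ i = 1 ∧ a = 1 := by
    intro i a h
    have h1 : Ψ a ∈ DD ⊓ pPrimeCore 2 C1 := by
      refine ⟨⟨a, rfl⟩, ?_⟩
      have : Ψ a = (xx ^ i)⁻¹ := by rw [eq_inv_iff_mul_eq_one, ← hcomm]; exact h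
      rw [this]
      exact (pPrimeCore 2 C1).inv_mem ((pPrimeCore 2 C1).zpow_mem xx_core i)
    rw [inf_core DD two_dvd, mem_bot] at h1
    have h2 := (injective_iff_map_eq_one Ψ).1 Ψ_inj a h1
    refine ⟨?_, h2⟩
    rw [h1, mul_one] at h
    exact h
  let f : ↥(zpowers xx) × ↥(centralizer ({s9} : Set A9)) → ↥(centralizer ({Ψ s9} : Set C1)) := fun p =>
    ⟨(p.1 : C1) * Ψ p.2, by
      rw [mem_centralizer_singleton_iff]
      obtain ⟨i, hi⟩ := mem_zpowers_iff.1 p.1.2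
      have h1 := mem_centralizer_singleton_iff.1 p.2.2
      rw [← hi]
      calc xx ^ i * Ψ p.2 * Ψ s9 = xx ^ i * Ψ ((p.2 : A9) * s9) := by rw [map_mul, mul_assoc]
        _ = Ψ (s9 * (p.2 : A9)) * xx ^ i := by rw [h1, hcomm]
        _ = Ψ s9 * (xx ^ i * Ψ p.2) := by rw [map_mul, mul_assoc, hcomm]⟩
  have hf : Function.Injective f := by
    rintro ⟨⟨u, hu⟩, ⟨a, ha⟩⟩ ⟨⟨v, hv⟩, ⟨b, hb⟩⟩ h
    obtain ⟨i, rfl⟩ := mem_zpowers_iff.1 hu
    obtain ⟨j, rfl⟩ := mem_zpowers_iff.1 hv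
    have h1 : xx ^ i * Ψ a = xx ^ j * Ψ b := congrArg Subtype.val h
    have h2 : xx ^ (-j + i) * Ψ (a * b⁻¹) = 1 := by
      rw [map_mul, map_inv, zpow_add, mul_assoc, ← mul_assoc (xx ^ i), h1]
      group
    obtain ⟨h3, h4⟩ := hbot _ _ h2
    have h5 : xx ^ i = xx ^ j := by
      rw [zpow_add, zpow_neg, inv_mul_eq_one] at h3
      exact h3.symm
    have h6 : a = b := mul_inv_eq_one.1 h4
    subst h6
    exact Prod.ext (Subtype.ext h5) rfl
  have hcard : Nat.card ↥(centralizer ({Ψ s9} : Set C1)) ≤ 576 := Nat.le_of_dvd (by norm_num) card_cent_s9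
  have hcard2 : 576 ≤ Nat.card (↥(zpowers xx) × ↥(centralizer ({s9} : Set A9))) := by
    rw [Nat.card_prod, Nat.card_zpowers, order_xx]
    have := Nine.card_cent_s9
    omega
  have hs : Function.Surjective f :=
    ((Nat.bijective_iff_injective_and_card f).2
      ⟨hf, le_antisymm (Nat.card_le_card_of_injective f hf) (hcard.trans hcard2)⟩).2
  obtain ⟨⟨⟨u, hu⟩, ⟨a, ha⟩⟩, h⟩ := hs ⟨c, mem_centralizer_singleton_iff.2 hc⟩
  obtain ⟨i, rfl⟩ := mem_zpowers_iff.1 hu
  exact ⟨i, a, mem_centralizer_singleton_iff.1 ha, (congrArg Subtype.val h).symm⟩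

theorem card_cent_conj {H : Type*} [Group H] (g y : H) :
    Nat.card ↥(centralizer ({g * y * g⁻¹} : Set H)) = Nat.card ↥(centralizer ({y} : Set H)) := by
  refine Nat.card_congr ⟨fun u => ⟨g⁻¹ * u * g, ?_⟩, fun u => ⟨g * u * g⁻¹, ?_⟩, fun u => ?_, fun u => ?_⟩
  · have h := mem_centralizer_singleton_iff.1 u.2
    rw [mem_centralizer_singleton_iff]
    calc g⁻¹ * (u : H) * g * y = g⁻¹ * ((u : H) * (g * y * g⁻¹)) * g := by group
      _ = y * (g⁻¹ * u * g) := by rw [h]; group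
  · have h := mem_centralizer_singleton_iff.1 u.2
    rw [mem_centralizer_singleton_iff]
    calc g * (u : H) * g⁻¹ * (g * y * g⁻¹) = g * ((u : H) * y) * g⁻¹ := by group
      _ = g * y * g⁻¹ * (g * u * g⁻¹) := by rw [h]; group
  · apply Subtype.ext
    show g * (g⁻¹ * (u : H) * g) * g⁻¹ = u
    group
  · apply Subtype.ext
    show g⁻¹ * (g * (u : H) * g⁻¹) * g = u
    group

theorem s_sq : Ψ s9 * Ψ s9 = 1 := by rw [← map_mul, s9_sq, map_one]

theorem s_ne : Ψ s9 ≠ 1 := fun h => s9_ne ((injective_iff_map_eq_one Ψ).1 Ψ_inj _ h)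

theorem prod (h : C1) : ∃ d ∈ DD, ∃ j ∈ pPrimeCore 2 C1, h = d * j := by
  refine mem_prod DD two_dvd card_quot (s := Ψ s9) ⟨s9, rfl⟩ s_sq s_ne ?_ ?_ h
  · rintro _ ⟨δ, rfl⟩ h1 h2 ⟨g, hg⟩
    have h3 : δ * δ = 1 := Ψ_inj (by rw [map_mul, h1, map_one])
    have h4 : δ ≠ 1 := fun h => h2 (by rw [h, map_one])
    rcases Nine.cases h3 h4 with ⟨c, hc⟩ | ⟨c, hc, hcc⟩
    · exact ⟨Ψ c, ⟨c, rfl⟩, by rw [← map_inv, ← map_mul, ← map_mul, hc]⟩
    · exfalso
      have h5 : orderOf (⟨Ψ c, mem_centralizer_singleton_iff.2 (by rw [← map_mul, hcc, map_mul])⟩ :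
          ↥(centralizer ({Ψ δ} : Set C1))) = 5 := by
        rw [Subgroup.orderOf_mk, orderOf_injective Ψ Ψ_inj, hc]
      have h6 : 5 ∣ Nat.card ↥(centralizer ({Ψ δ} : Set C1)) := h5 ▸ orderOf_dvd_natCard _
      rw [← hg, card_cent_conj] at h6
      have h7 : 5 ∣ 576 := h6.trans card_cent_s9
      norm_num at h7
  · intro c hc
    obtain ⟨i, a, -, e⟩ := cent_s hc
    refine ⟨Ψ a, ⟨a, rfl⟩, xx ^ i, (pPrimeCore 2 C1).zpow_mem xx_core i, ?_⟩
    rw [e]
    exact ((show Commute xx (Ψ a) from xx_comm _).zpow_left i).eq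

theorem fix {u : A9} (hu : ∃ c : A9, c * s9 * c⁻¹ = u) : ∀ j ∈ pPrimeCore 2 C1, j * Ψ u = Ψ u * j → j ∈ zpowers xx := by
  obtain ⟨c, rfl⟩ := hu
  intro j hj hju
  have hJn : (pPrimeCore 2 C1).Normal := Lib.Cores.pPrimeCore_normal 2
  have h1 : ((Ψ c)⁻¹ * j * (Ψ c)⁻¹⁻¹) ∈ pPrimeCore 2 C1 := hJn.conj_mem j hj _
  have h2 : ((Ψ c)⁻¹ * j * (Ψ c)⁻¹⁻¹) * Ψ s9 = Ψ s9 * ((Ψ c)⁻¹ * j * (Ψ c)⁻¹⁻¹) := by
    rw [map_mul, map_mul, map_inv] at hju
    calc ((Ψ c)⁻¹ * j * (Ψ c)⁻¹⁻¹) * Ψ s9 = (Ψ c)⁻¹ * (j * (Ψ c * Ψ s9 * (Ψ c)⁻¹)) * Ψ c := by group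
      _ = _ := by rw [hju]; group
  obtain ⟨i, a, -, e⟩ := cent_s h2
  have h3 := s9_core h1 (a := a) ⟨i, e⟩
  obtain ⟨k, hk⟩ := mem_zpowers_iff.1 h3
  have h4 : j = xx ^ k := by
    have h5 : j = Ψ c * ((Ψ c)⁻¹ * j * (Ψ c)⁻¹⁻¹) * (Ψ c)⁻¹ := by group
    rw [h5, ← hk, ← ((show Commute xx (Ψ c) from xx_comm _).zpow_left k).eq, mul_inv_cancel_right]
  rw [h4]
  exact zpow_mem (mem_zpowers xx) k

theorem core_eq : pPrimeCore 2 C1 ≤ zpowers xx := by
  refine core_le xx_comm xx_core s_sq (t := Ψ a9) ?_ ?_ (fix ⟨1, by group⟩) (fix Nine.conj_a9) ?_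
  · rw [← map_mul, a9_sq, map_one]
  · rw [← map_mul, ← comm_as, map_mul]
  · rw [← map_mul]
    exact fix Nine.conj_s9a9

/-- **`C(X1) = ⟨X1⟩ × A₉`**. -/
theorem main (h : C1) : ∃ i : ℤ, ∃ a : A9, h = xx ^ i * Ψ a := by
  obtain ⟨_, ⟨a, rfl⟩, j, hj, e⟩ := prod h
  obtain ⟨i, rfl⟩ := mem_zpowers_iff.1 (core_eq hj)
  exact ⟨i, a, by rw [e]; exact ((show Commute xx (Ψ a) from xx_comm _).zpow_left i).eq.symm⟩

end Cfsg.Agent.H678.HNT.Cent
end
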